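import Cfsg.Agent.Lib.BaseTwo.Blocks
import Mathlib.FieldTheory.IsAlgClosed.AlgebraicClosure
import Mathlib.LinearAlgebra.Eigenspace.Minpoly
import Mathlib.RingTheory.PowerBasis

/-!
The scalars of a normal subgroup of prime order are at least as many as its conjugates require.
-/

set_option autoImplicit false
set_option linter.unusedSectionVars false
set_option linter.style.haveILetI false

namespace CfsgLib.ClassFit

open CfsgLib.BaseTwo (scalars endo endo_mem_scalars)
open Polynomial

universe u

variable {H V : Type u} [Group H] [Finite H] [AddCommGroup V] [Finite V] [DistribMulAction H V]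

/-- The scalars of a fixed-point-free element with normalized powers, over any prime field. -/
theorem pow_index_le_aux {k : Type} [Field k] [Finite k] [Module k V] (hk : ∀ c : k, ∃ n : ℕ, (n : k) = c)
    {p : ℕ} [hp : Fact p.Prime]
    (hnt : ∃ v : V, v ≠ 0) {x : H} (hxp : x ^ p = 1) (hx1 : x ≠ 1) (hfix : ∀ v : V, x • v = v → v = 0)
    (hnorm : ∀ h : H, h * x * h⁻¹ ∈ Subgroup.zpowers x) (R : Subring (AddMonoid.End V))
    (hR : endo H V x ∈ R) :
    Nat.card k ^ (Subgroup.centralizer ({x} : Set H)).index ≤ Nat.card R := by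
  classical
  choose ν hν using hk
  have hsm : ∀ (h : H) (c : k) (v : V), h • c • v = c • h • v := fun h c v => by
    rw [← hν c, Nat.cast_smul_eq_nsmul, Nat.cast_smul_eq_nsmul]
    exact map_nsmul (DistribSMul.toAddMonoidHom V h) _ v
  haveI : Finite (AddMonoid.End V) := Finite.of_injective (fun f => (f : V → V)) DFunLike.coe_injective
  obtain ⟨v₀, hv₀⟩ := hnt
  haveI : Nontrivial V := ⟨⟨v₀, 0, hv₀⟩⟩
  let T : H →* Module.End k V :=
    { toFun := fun h =>
        { toFun := fun v => h • v
          map_add' := smul_add h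
          map_smul' := fun c v => hsm h c v }
      map_one' := LinearMap.ext fun v => one_smul H v
      map_mul' := fun a b => LinearMap.ext fun v => mul_smul a b v }
  have hT : ∀ (h : H) (v : V), T h v = h • v := fun _ _ => rfl
  let f := T x
  haveI : Module.Finite k V := Module.Finite.of_finite
  have hint : IsIntegral k f := IsIntegral.of_finite _ _
  let μ := minpoly k f
  -- the scalars contain the powers
  have hcard : Nat.card k ^ μ.natDegree ≤ Nat.card R := by
    have hind := linearIndependent_pow (K := k) f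
    let Φ : (Fin μ.natDegree → k) → R := fun c =>
      ⟨∑ i, ν (c i) • endo H V x ^ (i : ℕ), sum_mem fun i _ => nsmul_mem (pow_mem hR _) _⟩
    have hΦ : ∀ (c : Fin μ.natDegree → k) (v : V),
        (∑ i, c i • f ^ (i : ℕ)) v = (Φ c : AddMonoid.End V) v := fun c v => by
      rw [LinearMap.sum_apply]
      show _ = (∑ i, ν (c i) • endo H V x ^ (i : ℕ) : AddMonoid.End V) v
      refine Eq.trans ?_ (AddMonoidHom.finsetSum_apply (fun i : Fin μ.natDegree => ((ν (c i) • endo H V x ^ (i : ℕ) : AddMonoid.End V) : V →+ V)) Finset.univ v).symm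
      refine Finset.sum_congr rfl fun i _ => ?_
      rw [LinearMap.smul_apply, ← map_pow T, hT, ← map_pow (endo H V)]
      show c i • (x ^ (i : ℕ) • v) = ν (c i) • (x ^ (i : ℕ) • v)
      rw [← Nat.cast_smul_eq_nsmul k, hν]
    have hinj : Function.Injective Φ := fun c c' h => by
      have h1 : ∑ i, c i • f ^ (i : ℕ) = ∑ i, c' i • f ^ (i : ℕ) :=
        LinearMap.ext fun v => by rw [hΦ, hΦ, h]
      exact funext fun i => Fintype.linearIndependent_iffₛ.1 hind c c' h1 i
    have := Nat.card_le_card_of_injective Φ hinj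
    rwa [Nat.card_fun, Nat.card_fin] at this
  refine le_trans (Nat.pow_le_pow_right Nat.card_pos ?_) hcard
  -- a root of order `p`
  let L := AlgebraicClosure k
  have hμp : μ ∣ X ^ p - 1 := minpoly.dvd _ _ (by
    rw [map_sub, map_pow, aeval_X, map_one, ← map_pow T, hxp, map_one, sub_self])
  have hμ1 : ¬ μ.IsRoot 1 := by
    intro h
    obtain ⟨v, hv⟩ := (Module.End.hasEigenvalue_iff_isRoot.2 h).exists_hasEigenvector
    have := hv.apply_eq_smul
    rw [one_smul] at this
    exact hv.2 (hfix v this)
  obtain ⟨ζ, hζ⟩ := IsAlgClosed.exists_aeval_eq_zero L μ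
    (natDegree_pos_iff_degree_pos.1 (minpoly.natDegree_pos hint)).ne'
  have hζp : ζ ^ p = 1 := by
    obtain ⟨q, hq⟩ := hμp
    have := congrArg (aeval ζ) hq
    rwa [map_mul, hζ, zero_mul, map_sub, map_pow, aeval_X, map_one, sub_eq_zero] at this
  have hζ1 : ζ ≠ 1 := by
    rintro rfl
    rw [← map_one (algebraMap k L), aeval_algebraMap_apply,
      map_eq_zero_iff _ (algebraMap k L).injective] at hζ
    exact hμ1 (by rwa [coe_aeval_eq_eval] at hζ)
  have hoζ : orderOf ζ = p := orderOf_eq_prime hζp hζ1
  have hox : orderOf x = p := orderOf_eq_prime hxp hx1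
  -- conjugates give roots
  have hn : ∀ h : H, ∃ n : ℕ, x ^ n = h * x * h⁻¹ ∧ aeval (ζ ^ n) μ = 0 := by
    intro h
    obtain ⟨n, hn⟩ := (isOfFinOrder_of_finite x).mem_powers_iff_mem_zpowers.2 (hnorm h)
    refine ⟨n, hn, ?_⟩
    let c : Module.End k V →ₐ[k] Module.End k V :=
      { toFun := fun g => T h * g * T h⁻¹
        map_one' := by rw [mul_one, ← map_mul, mul_inv_cancel, map_one]
        map_mul' := fun g g' => by
          have e : T h⁻¹ * T h = 1 := by rw [← map_mul, inv_mul_cancel, map_one]
          rw [show T h * g * T h⁻¹ * (T h * g' * T h⁻¹) = T h * g * (T h⁻¹ * T h) * g' * T h⁻¹ by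
            simp only [mul_assoc], e, mul_one]
          simp only [mul_assoc]
        map_zero' := by rw [mul_zero, zero_mul]
        map_add' := fun g g' => by rw [mul_add, add_mul]
        commutes' := fun a => by
          rw [← Algebra.commutes a (T h), mul_assoc, ← map_mul T, mul_inv_cancel, map_one, mul_one] }
    have hc : c f = f ^ n := by
      show T h * T x * T h⁻¹ = T x ^ n
      rw [← map_mul, ← map_mul, ← map_pow]
      exact congrArg T hn.symm
    have h0 : aeval (f ^ n) μ = 0 := by
      rw [← hc, aeval_algHom_apply, minpoly.aeval, map_zero]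
    obtain ⟨q, hq⟩ := minpoly.dvd k f (p := μ.comp (X ^ n)) (by
      rw [aeval_comp, map_pow, aeval_X]; exact h0)
    have := congrArg (aeval ζ) hq
    rwa [aeval_comp, map_pow, aeval_X, map_mul, hζ, zero_mul] at this
  choose n hn hroot using hn
  set C := Subgroup.centralizer ({x} : Set H)
  have hinj : Function.Injective fun q : H ⧸ C => ζ ^ n q.out := by
    intro a b h
    change ζ ^ n a.out = ζ ^ n b.out at h
    rw [← pow_mod_orderOf, ← pow_mod_orderOf ζ (n b.out), hoζ] at h
    have hm := pow_injOn_Iio_orderOf (by rw [Set.mem_Iio, hoζ]; exact Nat.mod_lt _ hp.out.pos)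
      (by rw [Set.mem_Iio, hoζ]; exact Nat.mod_lt _ hp.out.pos) h
    replace h : x ^ n a.out = x ^ n b.out := by
      rw [← pow_mod_orderOf, ← pow_mod_orderOf x (n b.out), hox, hm]
    rw [hn, hn] at h
    rw [← a.out_eq', ← b.out_eq']
    refine QuotientGroup.eq.2 (Subgroup.mem_centralizer_singleton_iff.2 ?_)
    calc (a.out⁻¹ * b.out) * x = a.out⁻¹ * (b.out * x * b.out⁻¹) * b.out := by group
      _ = a.out⁻¹ * (a.out * x * a.out⁻¹) * b.out := by rw [h]
      _ = _ := by group
  have hsub : ∀ q : H ⧸ C, ζ ^ n q.out ∈ (μ.aroots L).toFinset := fun q =>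
    Multiset.mem_toFinset.2 (mem_aroots.2 ⟨minpoly.ne_zero hint, hroot _⟩)
  have h1 : Nat.card (H ⧸ C) ≤ (μ.aroots L).toFinset.card := by
    rw [← Nat.card_eq_finsetCard]
    exact Nat.card_le_card_of_injective (fun q => (⟨_, hsub q⟩ : (μ.aroots L).toFinset))
      fun a b h => hinj (congrArg Subtype.val h)
  refine (le_of_eq C.index_eq_card).trans (h1.trans ((Multiset.toFinset_card_le _).trans ?_))
  refine (Polynomial.card_roots' _).trans ?_
  rw [natDegree_map]

/-- The scalars of a fixed-point-free element with normalized powers. -/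
theorem pow_index_le_scalars {r p : ℕ} [Fact r.Prime] [Fact p.Prime] (hexp : ∀ v : V, r • v = 0)
    (hnt : ∃ v : V, v ≠ 0) {x : H} (hxp : x ^ p = 1) (hx1 : x ≠ 1) (hfix : ∀ v : V, x • v = v → v = 0)
    (hnorm : ∀ h : H, h * x * h⁻¹ ∈ Subgroup.zpowers x) (R : Subring (AddMonoid.End V))
    (hR : endo H V x ∈ R) :
    r ^ (Subgroup.centralizer ({x} : Set H)).index ≤ Nat.card R := by
  letI : Module (ZMod r) V := AddCommGroup.zmodModule hexp
  have h := pow_index_le_aux (k := ZMod r) (V := V) ZMod.natCast_zmod_surjective hnt hxp hx1 hfix hnorm R hR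
  rwa [Nat.card_zmod] at h

end CfsgLib.ClassFit
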