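import Cfsg.Agent.Lib.ClassLin.Field
import Cfsg.Agent.Lib.ClassLin.Blocks
import Cfsg.Agent.Lib.ClassNumberPSq.Assembly

/-!
The order of a solvable completely reducible group against its class number and its central scalars.
-/

set_option autoImplicit false
set_option linter.unusedSectionVars false
set_option linter.style.haveILetI false
set_option maxHeartbeats 1000000

namespace CfsgLib.ClassFit

open CfsgLib.BaseTwo (Inv CROn Irr FieldCase scalars endo endo_mem_scalars commute_of_mem_scalars scalars_comm
  exists_pow_idempotent)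
open CfsgLib.ClassLin (KScal exists_blocks exists_fieldLayer)
open CfsgLib.ClassPSq (Bd exists_max_abelian central_bound classes_le_index_mul classes_pi_bound
  classes_mul_card_le first_crude sq_le_pow tau_first Bd_small Bd_large)

universe u v

/-- The inequality for the index of the scalar group. -/
theorem index_crude {x e M : ℕ} (hx : 16 ≤ x) (he : 2 ≤ e) (hM : M ≤ e * e * Bd e) :
    M + 1 ≤ 3 * x ^ (e - 1) := by
  obtain ⟨-, -, b2, b3, b4, b5, b6, b7, b8⟩ := Bd_small
  have h16 : 16 ^ (e - 1) ≤ x ^ (e - 1) := Nat.pow_le_pow_left hx _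
  rcases Nat.lt_or_ge e 9 with h9 | h9
  · interval_cases e <;> norm_num [b2, b3, b4, b5, b6, b7, b8] at hM h16 ⊢ <;> omega
  · have h := hM.trans (Bd_large e h9)
    have h11 : 11 ^ (e - 2) ≤ 16 ^ (e - 2) := Nat.pow_le_pow_left (by norm_num) _
    have h1 : 1 ≤ 16 ^ (e - 2) := Nat.one_le_pow _ _ (by norm_num)
    rw [show e - 1 = e - 2 + 1 by omega] at h16 ⊢
    rw [pow_succ 16] at h16
    omega

/-- A field of scalars from the centre bounds the order by the class number. -/
theorem irr_bound {k : Type v} [Field k] [Finite k] (hx : 16 ≤ Nat.card k) {r : ℕ} [Fact r.Prime] :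
    ∀ (N : ℕ) (A V : Type u) [Group A] [Finite A] [AddCommGroup V] [Finite V] [DistribMulAction A V] [Module k V],
      Nat.card A ≤ N → Group.IsSolvable A → (∀ a : A, (∀ v : V, a • v = v) → a = 1) → Irr A V →
      KScal k A V → (∀ v : V, r • v = 0) → (∃ v : V, v ≠ 0) →
      Nat.card A * Nat.card k ≤ Nat.card V * Nat.card (ConjClasses A) := by
  intro N
  induction N using Nat.strong_induction_on with
  | _ N ih =>
    intro A V _ _ _ _ _ _ hN hsol hf hirr hk hexp hnt
    classical
    obtain ⟨U, hU, hUc, hmax⟩ := exists_max_abelian (A := A)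
    by_cases hfield : ∀ s ∈ scalars V U, s ≠ 0 → ∃ s' ∈ scalars V U, s * s' = 1
    · have F : FieldCase A V U := ⟨hnt, hU, hUc, hfield, hf⟩
      have hcU : Subgroup.center A ≤ U := by
        have h := hmax (U ⊔ Subgroup.center A) inferInstance le_sup_left (by
          intro x hx y hy
          rw [← SetLike.mem_coe, Subgroup.normal_mul] at hx hy
          obtain ⟨x1, hx1, x2, hx2, rfl⟩ := hx
          obtain ⟨y1, hy1, y2, hy2, rfl⟩ := hy
          have c : ∀ z ∈ Subgroup.center A, ∀ g : A, Commute z g := fun z hz g =>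
            (Subgroup.mem_center_iff.1 hz g).symm
          exact (((show Commute x1 y1 from hUc x1 hx1 y1 hy1).mul_right ((c y2 hy2 x1).symm)).mul_left
            (c x2 hx2 (y1 * y2))).eq)
        exact le_sup_right.trans_eq h
      have hkU : ∀ c : k, ∃ f ∈ scalars V U, ∀ v : V, f v = c • v := fun c => by
        obtain ⟨f, hf', hfv⟩ := hk c
        exact ⟨f, Subring.closure_mono (Set.image_mono hcU) hf', hfv⟩
      obtain ⟨a, d, e, E, ha, -, hV, he, hed, -, hidx, -, -, hUE, hEC, -, hUEi, W, _, _, μ, _, _, _, β, act,
          hβ, hW, -, hiso, -, hker, -⟩ :=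
        exists_fieldLayer hsol F hmax hexp hkU (fun a c v => hk.comm a c v)
      set C := Subgroup.centralizer (U : Set A) with hC
      haveI : Finite (MulAut W) := Finite.of_injective (fun φ : MulAut W => (φ : W → W)) DFunLike.coe_injective
      let g := act.comp C.subtype
      have hgk : g.ker = E.subgroupOf C := by
        ext c
        rw [MonoidHom.mem_ker, Subgroup.mem_subgroupOf]
        exact hker c c.2
      have hgc : E.relIndex C = Nat.card g.range := by
        rw [← Subgroup.index_ker, hgk]
        rfl
      have hpres : ∀ (s : g.range) (x y : W), β ((s : MulAut W) x) ((s : MulAut W) y) = β x y := by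
        rintro ⟨_, c, rfl⟩ x y
        exact hiso c c.2 x y
      have hS : Nat.card g.range ≤ Bd e := hβ.card_le g.range.subtype Subtype.val_injective hpres hW
      have hUC : U ≤ C := hUE.trans hEC
      set M := U.relIndex C with hMdef
      have hMle : M ≤ e * e * Bd e := by
        rw [hMdef, ← Subgroup.relIndex_mul_relIndex U E C hUE hEC, hUEi, hgc]
        exact Nat.mul_le_mul_left _ hS
      have hM1 : 1 ≤ M := Nat.one_le_iff_ne_zero.2 Subgroup.index_ne_zero_of_finite
      have hcU' : Nat.card (U.subgroupOf C) = Nat.card U :=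
        Nat.card_congr (Subgroup.subgroupOfEquivOfLe hUC).toEquiv
      have hcard : Nat.card A = Nat.card U * M * C.index := by
        rw [hMdef, Subgroup.relIndex, ← hcU', (U.subgroupOf C).card_mul_index, C.card_mul_index]
      have hkC : Nat.card U * (3 * M - 2) ≤ Nat.card (ConjClasses C) * M := by
        have h := central_bound (U.subgroupOf C) (fun x hx => Subgroup.mem_center_iff.2 fun y =>
          Subtype.ext (Subgroup.mem_centralizer_iff.1 y.2 _ hx).symm)
        rwa [hcU'] at h
      have hA : Nat.card A * (3 * M - 2) ≤ a * a * (M * M) * Nat.card (ConjClasses A) := by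
        calc Nat.card A * (3 * M - 2) = C.index * M * (Nat.card U * (3 * M - 2)) := by rw [hcard]; ring
          _ ≤ C.index * M * (C.index * Nat.card (ConjClasses A) * M) :=
              Nat.mul_le_mul_left _ (hkC.trans (Nat.mul_le_mul_right _ (classes_le_index_mul C)))
          _ = C.index * C.index * (M * M) * Nat.card (ConjClasses A) := by ring
          _ ≤ _ := Nat.mul_le_mul_right _ (Nat.mul_le_mul_right _ (Nat.mul_le_mul hidx hidx))
      set x := Nat.card k with hxdef
      have hsq := sq_le_pow (show 4 ≤ x by omega) a ha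
      rw [pow_two] at hsq
      have hd1 : 1 ≤ d := le_trans he hed
      have key : a * a * (M * M) ≤ x ^ (a * d - 1) * (3 * M - 2) := by
        rcases Nat.eq_or_lt_of_le hM1 with hM | hM2
        · rw [← hM]
          simp only [mul_one, show (3 : ℕ) - 2 = 1 by norm_num]
          exact hsq.trans (Nat.pow_le_pow_right (by omega)
            (Nat.sub_le_sub_right (Nat.le_mul_of_pos_right a (by omega)) 1))
        have he2 : 2 ≤ e := by
          by_contra h
          obtain rfl : e = 1 := by omega
          rw [Bd_small.2.1] at hMle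
          omega
        have h1 := first_crude hM2 (index_crude hx he2 hMle)
        calc a * a * (M * M) ≤ x ^ (a - 1) * (x ^ (e - 1) * (3 * M - 2)) := Nat.mul_le_mul hsq h1
          _ ≤ _ := by
            rw [← mul_assoc, ← pow_add]
            refine Nat.mul_le_mul_right _ (Nat.pow_le_pow_right (by omega) ?_)
            obtain ⟨b, rfl⟩ := Nat.exists_eq_add_of_le ha
            have : b ≤ b * d := Nat.le_mul_of_pos_right b (by omega)
            rw [add_mul, one_mul]
            omega
      refine Nat.le_of_mul_le_mul_right ?_ (show 0 < 3 * M - 2 by omega)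
      calc Nat.card A * x * (3 * M - 2) = Nat.card A * (3 * M - 2) * x := by ring
        _ ≤ x ^ (a * d - 1) * (3 * M - 2) * Nat.card (ConjClasses A) * x :=
            Nat.mul_le_mul_right _ (hA.trans (Nat.mul_le_mul_right _ key))
        _ = x ^ (a * d - 1) * x * Nat.card (ConjClasses A) * (3 * M - 2) := by ring
        _ = _ := by
            have : 1 ≤ a * d := Nat.mul_pos ha hd1
            rw [hV, ← pow_succ, show a * d - 1 + 1 = a * d by omega]
    · obtain ⟨H, _, _, W, _, _, _, _, t, π, ψ, ht, hHs, hHf, hHi, hlt, -, hHk, hW, hexpW, hψ, h3, -, -, -⟩ :=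
        exists_blocks hsol hf hirr hk hU hUc hfield
      have hWnt : ∃ w : W, w ≠ 0 := by
        obtain ⟨v, hv⟩ := hnt
        by_contra hn
        push Not at hn
        have : Subsingleton W := ⟨fun a b => (hn a).trans (hn b).symm⟩
        rw [Nat.card_of_subsingleton (0 : W), one_pow] at hW
        exact hv (((Nat.card_eq_one_iff_unique.1 hW.symm).1).elim v 0)
      have hH := ih _ (lt_of_lt_of_le hlt hN) H W le_rfl hHs hHf hHi hHk (hexpW r hexp) hWnt
      have hb : Nat.card A * Nat.card (ConjClasses H) ^ t ≤
          Nat.card π.range ^ 2 * Nat.card H ^ t * Nat.card (ConjClasses A) :=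
        classes_pi_bound (P := Fin t → H) π.ker (Subgroup.index_ker π) ψ hψ
          (by rw [commProb_function, Fintype.card_fin])
      set x := Nat.card k with hxdef
      set kH := Nat.card (ConjClasses H)
      have h0 : 0 < kH ^ t := pow_pos Nat.card_pos _
      have h1 : 0 < x ^ (t - 1) := pow_pos (by omega) _
      have hxt : x ^ t = x * x ^ (t - 1) := by rw [← pow_succ', show t - 1 + 1 = t by omega]
      refine Nat.le_of_mul_le_mul_right ?_ (Nat.mul_pos h1 h0)
      calc Nat.card A * x * (x ^ (t - 1) * kH ^ t) = Nat.card A * kH ^ t * x ^ t := by rw [hxt]; ring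
        _ ≤ Nat.card π.range ^ 2 * Nat.card H ^ t * Nat.card (ConjClasses A) * x ^ t :=
            Nat.mul_le_mul_right _ hb
        _ = Nat.card π.range ^ 2 * (Nat.card H * x) ^ t * Nat.card (ConjClasses A) := by ring
        _ ≤ x ^ (t - 1) * (Nat.card W * kH) ^ t * Nat.card (ConjClasses A) :=
            Nat.mul_le_mul_right _ (Nat.mul_le_mul (tau_first (show 11 ≤ x by omega) ht h3)
              (Nat.pow_le_pow_left hH t))
        _ = _ := by rw [mul_pow, hW]; ring

/-- The class number of a direct product. -/
theorem classes_prod {G H : Type*} [Group G] [Finite G] [Group H] [Finite H] :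
    Nat.card (ConjClasses (G × H)) = Nat.card (ConjClasses G) * Nat.card (ConjClasses H) := by
  have h := commProb_prod G H
  rw [commProb_def', commProb_def', commProb_def', Nat.card_prod, div_mul_div_comm] at h
  push_cast at h
  have h0 : (Nat.card G : ℚ) * Nat.card H ≠ 0 :=
    mul_ne_zero (Nat.cast_ne_zero.2 Nat.card_pos.ne') (Nat.cast_ne_zero.2 Nat.card_pos.ne')
  have h' := (div_left_inj' h0).1 h
  exact_mod_cast h'

section restrict

variable {A V : Type u} [Group A] [Finite A] [AddCommGroup V] [Finite V] [DistribMulAction A V]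

/-- The faithful group induced on an invariant subgroup. -/
theorem exists_image {W : AddSubgroup V} (hW : Inv (⊤ : Subgroup A) W)
    (hcr : CROn (⊤ : Subgroup A) (⊤ : AddSubgroup V)) :
    ∃ (H : Type u) (_ : Group H) (_ : Finite H) (_ : DistribMulAction H W) (φ : A →* H),
      Function.Surjective φ ∧ (∀ h : H, (∀ w : W, h • w = w) → h = 1) ∧
      CROn (⊤ : Subgroup H) (⊤ : AddSubgroup W) ∧ ∀ (a : A) (w : W), ((φ a • w : W) : V) = a • (w : V) := by
  letI : DistribMulAction A W :=
    { smul := fun a w => ⟨a • (w : V), hW a trivial w w.2⟩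
      one_smul := fun w => Subtype.ext (one_smul _ _)
      mul_smul := fun a b w => Subtype.ext (mul_smul _ _ _)
      smul_zero := fun a => Subtype.ext (smul_zero _)
      smul_add := fun a v w => Subtype.ext (smul_add _ _ _) }
  haveI : Finite (AddMonoid.End W) :=
    Finite.of_injective (fun f => (f : W → W)) DFunLike.coe_injective
  let φ : A →* (AddMonoid.End W)ˣ := (DistribMulAction.toAddMonoidEnd A W).toHomUnits
  have hφ : ∀ (a : A) (w : W), ((φ.rangeRestrict a • w : W) : V) = a • (w : V) := fun a w => rfl
  refine ⟨φ.range, inferInstance, inferInstance, inferInstance, φ.rangeRestrict, φ.rangeRestrict_surjective,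
    ?_, ?_, hφ⟩
  · rintro ⟨_, s, rfl⟩ h
    refine Subtype.ext (Units.ext (DFunLike.ext _ _ fun w => ?_))
    exact h w
  · intro U _ hU
    have hmap : Inv (⊤ : Subgroup A) (U.map W.subtype) := by
      rintro a - _ ⟨w, hw, rfl⟩
      exact ⟨φ.rangeRestrict a • w, hU _ trivial w hw, hφ a w⟩
    obtain ⟨U', hU'W, hU'inv, hinf, hsup⟩ :=
      hcr.mono le_top hW (U.map W.subtype) (AddSubgroup.map_subtype_le U) hmap
    refine ⟨U'.comap W.subtype, le_top, ?_, ?_, ?_⟩
    · intro h _ w hw
      obtain ⟨a, rfl⟩ := φ.rangeRestrict_surjective h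
      show ((φ.rangeRestrict a • w : W) : V) ∈ U'
      rw [hφ]
      exact hU'inv a trivial _ hw
    · refine (AddSubgroup.eq_bot_iff_forall _).2 fun x hx => Subtype.ext ?_
      have h : (x : V) ∈ U.map W.subtype ⊓ U' := ⟨⟨x, hx.1, rfl⟩, hx.2⟩
      rw [hinf, AddSubgroup.mem_bot] at h
      exact h
    · refine eq_top_iff.2 fun x _ => ?_
      have h : (x : V) ∈ U.map W.subtype ⊔ U' := by rw [hsup]; exact x.2
      obtain ⟨_, ⟨y, hy, rfl⟩, z, hz, e⟩ := AddSubgroup.mem_sup.1 h
      exact AddSubgroup.mem_sup.2 ⟨y, hy, ⟨z, hU'W hz⟩, hz, Subtype.ext e⟩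

/-- Scalars restrict. -/
theorem scalars_restrict {W : AddSubgroup V} {H : Type u} [Group H] [Finite H] [DistribMulAction H W] (φ : A →* H)
    (hφ : ∀ (a : A) (w : W), ((φ a • w : W) : V) = a • (w : V)) (Z : Subgroup A) {f : AddMonoid.End V}
    (hf : f ∈ scalars V Z) :
    ∃ g ∈ scalars W (Z.map φ), ∀ w : W, ((g w : W) : V) = f (w : V) := by
  revert hf
  refine fun hf => Subring.closure_induction (p := fun f _ => ∃ g ∈ scalars W (Z.map φ),
    ∀ w : W, ((g w : W) : V) = f (w : V)) ?_ ?_ ?_ ?_ ?_ ?_ hf
  · rintro _ ⟨z, hz, rfl⟩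
    exact ⟨endo H W (φ z), endo_mem_scalars (Subgroup.mem_map_of_mem φ hz), fun w => hφ z w⟩
  · exact ⟨0, zero_mem _, fun w => rfl⟩
  · exact ⟨1, one_mem _, fun w => rfl⟩
  · rintro f g - - ⟨f', hf', hf''⟩ ⟨g', hg', hg''⟩
    refine ⟨f' + g', add_mem hf' hg', fun w => ?_⟩
    show ((f' w + g' w : W) : V) = f (w : V) + g (w : V)
    rw [AddSubgroup.coe_add, hf'', hg'']
  · rintro f - ⟨f', hf', hf''⟩
    refine ⟨-f', neg_mem hf', fun w => ?_⟩
    show ((-(f' w) : W) : V) = -(f (w : V))
    rw [AddSubgroup.coe_neg, hf'']
  · rintro f g - - ⟨f', hf', hf''⟩ ⟨g', hg', hg''⟩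
    refine ⟨f' * g', mul_mem hf' hg', fun w => ?_⟩
    show ((f' (g' w) : W) : V) = f (g (w : V))
    rw [hf'', hg'']

end restrict

/-- **Completely reducible groups with central scalars.** -/
theorem cr_bound {r : ℕ} [Fact r.Prime] :
    ∀ (m : ℕ) (A V : Type u) [Group A] [Finite A] [AddCommGroup V] [Finite V] [DistribMulAction A V],
      Nat.card V ≤ m → ∀ Z : Subgroup A, Group.IsSolvable A → (∀ a : A, (∀ v : V, a • v = v) → a = 1) →
      CROn (⊤ : Subgroup A) (⊤ : AddSubgroup V) → (∀ v : V, r • v = 0) → Z ≤ Subgroup.center A →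
      16 ≤ Nat.card Z → (∀ z ∈ Z, ∀ v : V, z • v = v → z = 1 ∨ v = 0) →
      Nat.card A * Nat.card (scalars V Z) ≤ Nat.card V * Nat.card (ConjClasses A) := by
  intro m
  induction m using Nat.strong_induction_on with
  | _ m ih =>
    intro A V _ _ _ _ _ hm Z hsol hf hcr hexp hZ h16 hfree
    classical
    haveI : Finite (AddMonoid.End V) := Finite.of_injective (fun f => (f : V → V)) DFunLike.coe_injective
    have hnt : ∃ v : V, v ≠ 0 := by
      by_contra hn
      push Not at hn
      have : Subsingleton A := ⟨fun a b => by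
        rw [hf a fun v => (hn _).trans (hn v).symm, hf b fun v => (hn _).trans (hn v).symm]⟩
      have := Finite.card_le_one_iff_subsingleton.2 (inferInstance : Subsingleton Z)
      omega
    have hZc : ∀ x ∈ Z, ∀ y ∈ Z, x * y = y * x := fun x hx y _ => (Subgroup.mem_center_iff.1 (hZ hx) y).symm
    by_cases hirr : Irr A V
    · have hZn : Z.Normal := ⟨fun z hz g => by
        rw [Subgroup.mem_center_iff.1 (hZ hz) g, mul_inv_cancel_right]; exact hz⟩
      have hinv : ∀ s ∈ scalars V Z, s ≠ 0 → ∃ s' ∈ scalars V Z, s * s' = 1 := by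
        intro s hs hs0
        have hker : ∀ v, s v = 0 → v = 0 := by
          have hW : Inv (⊤ : Subgroup A) (AddMonoidHom.ker (s : V →+ V)) := fun a _ v hv => by
            have hc := commute_of_mem_scalars (f := endo A V a) (fun u hu => by
              rw [← map_mul, ← map_mul, Subgroup.mem_center_iff.1 (hZ hu) a]) hs
            show s (a • v) = 0
            rw [show s (a • v) = a • s v from (DFunLike.congr_fun hc v).symm, show s v = 0 from hv, smul_zero]
          rcases hirr _ hW with h | h
          · intro v hv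
            rw [← AddSubgroup.mem_bot (G := V), ← h]
            exact hv
          · refine absurd (DFunLike.ext _ _ fun v => ?_) hs0
            exact (show v ∈ AddMonoidHom.ker (s : V →+ V) by rw [h]; trivial)
        obtain ⟨n, hn0, hidem⟩ := exists_pow_idempotent s
        refine ⟨s ^ (n - 1), pow_mem hs _, ?_⟩
        have hkn : ∀ (j : ℕ) v, (s ^ j) v = 0 → v = 0 := by
          intro j
          induction j with
          | zero => exact fun v hv => hv
          | succ j ihj =>
            intro v hv
            rw [pow_succ] at hv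
            exact hker v (ihj _ hv)
        rw [← pow_succ', show n - 1 + 1 = n by omega]
        refine DFunLike.ext _ _ fun v => sub_eq_zero.1 (hkn n _ ?_)
        rw [map_sub]
        show (s ^ n * s ^ n) v - (s ^ n) v = 0
        rw [hidem, sub_self]
      have F : FieldCase A V Z := ⟨hnt, hZn, hZc, hinv, hf⟩
      haveI := F.isDomain
      letI : CommRing (scalars V Z) :=
        { (inferInstance : Ring (scalars V Z)) with
          mul_comm := fun a b => Subtype.ext (scalars_comm F.comm a.2 b.2) }
      haveI : Fintype (scalars V Z) := Fintype.ofFinite _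
      letI : Field (scalars V Z) := (Finite.isField_of_domain (scalars V Z)).toField
      letI : Module (scalars V Z) V := Module.compHom V (scalars V Z).subtype
      have hk : KScal (scalars V Z) A V := fun c =>
        ⟨c, Subring.closure_mono (Set.image_mono hZ) c.2, fun v => rfl⟩
      have hx : 16 ≤ Nat.card (scalars V Z) := by
        refine h16.trans (Nat.card_le_card_of_injective
          (fun z : Z => (⟨endo A V z, endo_mem_scalars z.2⟩ : scalars V Z)) fun y z h => ?_)
        exact Subtype.ext (F.endo_inj (congrArg Subtype.val h))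
      exact irr_bound hx _ A V le_rfl hsol hf hirr hk hexp hnt
    · unfold Irr at hirr
      push Not at hirr
      obtain ⟨W, hW, hW0, hWt⟩ := hirr
      obtain ⟨W', -, hW', hinf, hsup⟩ := hcr W le_top hW
      have hW'0 : W' ≠ ⊥ := fun e => hWt (by rw [← hsup, e, sup_bot_eq])
      have hprod : Nat.card V = Nat.card W * Nat.card W' := by
        rw [← Nat.card_prod]
        refine (Nat.card_eq_of_bijective (fun p : W × W' => (p.1 : V) + p.2) ⟨?_, ?_⟩).symm
        · rintro ⟨a, b⟩ ⟨a', b'⟩ h
          change (a : V) + b = a' + b' at h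
          have h0 : (a : V) - a' ∈ W ⊓ W' := AddSubgroup.mem_inf.2 ⟨sub_mem a.2 a'.2, by
            rw [show (a : V) - a' = b' - b by linear_combination (norm := abel) h]
            exact sub_mem b'.2 b.2⟩
          rw [hinf, AddSubgroup.mem_bot, sub_eq_zero] at h0
          rw [h0, add_right_inj] at h
          exact Prod.ext (Subtype.ext h0) (Subtype.ext h)
        · intro v
          have hv : v ∈ W ⊔ W' := by rw [hsup]; trivial
          obtain ⟨a, ha, b, hb, hab⟩ := AddSubgroup.mem_sup.1 hv
          exact ⟨(⟨a, ha⟩, ⟨b, hb⟩), hab⟩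
      have hW1 : 1 < Nat.card W := W.one_lt_card_iff_ne_bot.2 hW0
      have hW'1 : 1 < Nat.card W' := W'.one_lt_card_iff_ne_bot.2 hW'0
      have hlt : Nat.card W < m ∧ Nat.card W' < m := by
        constructor <;> refine lt_of_lt_of_le ?_ hm <;> rw [hprod]
        · exact (Nat.lt_mul_iff_one_lt_right (by omega)).2 hW'1
        · exact (Nat.lt_mul_iff_one_lt_left (by omega)).2 hW1
      obtain ⟨H, _, _, _, φ, hφs, hHf, hHcr, hφ⟩ := exists_image hW hcr
      obtain ⟨H', _, _, _, φ', hφ's, hH'f, hH'cr, hφ'⟩ := exists_image hW' hcr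
      have hstep : ∀ (X : AddSubgroup V) (K : Type u) [Group K] [Finite K] [DistribMulAction K X] (ψ : A →* K),
          Function.Surjective ψ → X ≠ ⊥ → Nat.card X < m → (∀ k : K, (∀ w : X, k • w = w) → k = 1) →
          CROn (⊤ : Subgroup K) (⊤ : AddSubgroup X) → (∀ (a : A) (w : X), ((ψ a • w : X) : V) = a • (w : V)) →
          Nat.card K * Nat.card (scalars X (Z.map ψ)) ≤ Nat.card X * Nat.card (ConjClasses K) := by
        intro X K _ _ _ ψ hs hX0 hX hKf hKcr hψ
        haveI := hsol
        obtain ⟨v, hv, hv0⟩ : ∃ v ∈ X, v ≠ 0 := by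
          by_contra hn
          push Not at hn
          exact hX0 ((AddSubgroup.eq_bot_iff_forall _).2 hn)
        refine ih _ hX K X le_rfl (Z.map ψ) (Group.isSolvable_of_surjective hs) hKf hKcr
          (fun w => Subtype.ext (by rw [AddSubgroup.coe_nsmul, hexp, AddSubgroup.coe_zero])) ?_ ?_ ?_
        · rintro _ ⟨z, hz, rfl⟩
          refine Subgroup.mem_center_iff.2 fun g => ?_
          obtain ⟨a, rfl⟩ := hs g
          rw [← map_mul, ← map_mul, Subgroup.mem_center_iff.1 (hZ hz) a]
        · refine h16.trans (Nat.card_le_card_of_injective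
            (fun z : Z => (⟨ψ z, Subgroup.mem_map_of_mem ψ z.2⟩ : Z.map ψ)) fun y z h => ?_)
          have h1 : ψ ((y : A)⁻¹ * z) = 1 := by
            rw [map_mul, map_inv, inv_mul_eq_one]; exact congrArg Subtype.val h
          refine Subtype.ext (inv_mul_eq_one.1 ((hfree _ (mul_mem (inv_mem y.2) z.2) v ?_).resolve_right hv0))
          rw [← hψ _ ⟨v, hv⟩, h1, one_smul]
        · rintro _ ⟨z, hz, rfl⟩ w hw
          rcases hfree z hz w (by rw [← hψ, hw]) with h | h
          · exact Or.inl (by rw [h, map_one])
          · exact Or.inr (Subtype.ext h)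
      have h1 := hstep W H φ hφs hW0 hlt.1 hHf hHcr hφ
      have h2 := hstep W' H' φ' hφ's hW'0 hlt.2 hH'f hH'cr hφ'
      -- the groups
      have hsplit : ∀ v : V, ∃ (a : W) (b : W'), v = a + b := fun v => by
        have hv : v ∈ W ⊔ W' := by rw [hsup]; trivial
        obtain ⟨a, ha, b, hb, hab⟩ := AddSubgroup.mem_sup.1 hv
        exact ⟨⟨a, ha⟩, ⟨b, hb⟩, hab.symm⟩
      let f := φ.prod φ'
      have hfi : Function.Injective f := (injective_iff_map_eq_one f).2 fun a ha => hf a fun v => by
        obtain ⟨x, y, rfl⟩ := hsplit v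
        rw [smul_add, ← hφ a x, ← hφ' a y, show φ a = 1 from congrArg Prod.fst ha,
          show φ' a = 1 from congrArg Prod.snd ha, one_smul, one_smul]
      have hcp : Nat.card A * (Nat.card (ConjClasses H) * Nat.card (ConjClasses H')) ≤
          Nat.card H * Nat.card H' * Nat.card (ConjClasses A) := by
        have h := classes_mul_card_le f.range
        have e := MonoidHom.ofInjective hfi
        rw [classes_prod, Nat.card_prod, ← Nat.card_congr e.toEquiv,
          ← CfsgLib.ClassLin.classes_congr e] at h
        linarith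
      -- the scalars
      have hR : Nat.card (scalars V Z) ≤ Nat.card (scalars W (Z.map φ)) * Nat.card (scalars W' (Z.map φ')) := by
        choose g hg hgv using fun s : scalars V Z => scalars_restrict φ hφ Z s.2
        choose g' hg' hgv' using fun s : scalars V Z => scalars_restrict φ' hφ' Z s.2
        haveI : Finite (AddMonoid.End W) := Finite.of_injective (fun f => (f : W → W)) DFunLike.coe_injective
        haveI : Finite (AddMonoid.End W') := Finite.of_injective (fun f => (f : W' → W')) DFunLike.coe_injective
        rw [← Nat.card_prod]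
        refine Nat.card_le_card_of_injective
          (fun s => ((⟨g s, hg s⟩ : scalars W (Z.map φ)), (⟨g' s, hg' s⟩ : scalars W' (Z.map φ')))) fun s t h => ?_
        refine Subtype.ext (DFunLike.ext _ _ fun v => ?_)
        obtain ⟨x, y, rfl⟩ := hsplit v
        rw [map_add, map_add, ← hgv, ← hgv, ← hgv', ← hgv',
          show g s = g t from congrArg Subtype.val (congrArg Prod.fst h),
          show g' s = g' t from congrArg Subtype.val (congrArg Prod.snd h)]
      refine Nat.le_of_mul_le_mul_right ?_
        (Nat.mul_pos (Nat.card_pos (α := ConjClasses H)) (Nat.card_pos (α := ConjClasses H')))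
      calc Nat.card A * Nat.card (scalars V Z) * (Nat.card (ConjClasses H) * Nat.card (ConjClasses H'))
          = Nat.card A * (Nat.card (ConjClasses H) * Nat.card (ConjClasses H')) * Nat.card (scalars V Z) := by ring
        _ ≤ Nat.card H * Nat.card H' * Nat.card (ConjClasses A) *
            (Nat.card (scalars W (Z.map φ)) * Nat.card (scalars W' (Z.map φ'))) := Nat.mul_le_mul hcp hR
        _ = Nat.card H * Nat.card (scalars W (Z.map φ)) * (Nat.card H' * Nat.card (scalars W' (Z.map φ'))) *
            Nat.card (ConjClasses A) := by ring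
        _ ≤ Nat.card W * Nat.card (ConjClasses H) * (Nat.card W' * Nat.card (ConjClasses H')) *
            Nat.card (ConjClasses A) := Nat.mul_le_mul_right _ (Nat.mul_le_mul h1 h2)
        _ = _ := by rw [hprod]; ring

end CfsgLib.ClassFit
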