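import Cfsg.Agent.Lib.ClassFit.KLinear
import Cfsg.Agent.Lib.ClassFit.Eigen
import Cfsg.Agent.Lib.ClassNumberPSq.Main
import Cfsg.Agent.Lib.Solvable.Fitting
import Cfsg.Prelude.Def_Solvable
import Mathlib.Analysis.SpecialFunctions.Log.Base

/-!
The class number of a solvable group against a prime dividing the index of the Fitting subgroup.
-/

set_option autoImplicit false
set_option linter.unusedSectionVars false
set_option linter.style.haveILetI false

namespace CfsgLib.ClassFit

open CfsgLib.BaseTwo (Inv CROn Irr scalars endo endo_mem_scalars crOn_normal)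
open Subgroup

universe u

/-- Classes of a quotient and orbits on a subgroup centralized by the kernel. -/
theorem classes_quotient_fix {G : Type*} [Group G] [Finite G] (N C : Subgroup G) [C.Normal] (hNC : N ≤ C)
    (hN : ∀ c ∈ C, ∀ y ∈ N, c * y = y * c) :
    Nat.card (ConjClasses (G ⧸ C)) * C.index + (Nat.card N - 1) ≤ Nat.card (ConjClasses G) * C.index := by
  classical
  have := Fintype.ofFinite G
  let S₁ : Finset (ConjClasses G) := ((Finset.univ.filter fun x : G => x ∈ N ∧ x ≠ 1)).image ConjClasses.mk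
  have hsize : (Finset.univ.filter fun x : G => x ∈ N ∧ x ≠ 1).card ≤ C.index * S₁.card := by
    refine Finset.card_le_mul_card_image _ _ fun c hc => ?_
    obtain ⟨x, hx, rfl⟩ := Finset.mem_image.1 hc
    have hxN := (Finset.mem_filter.1 hx).2.1
    let f : G ⧸ C → G := fun q => q.out * x * q.out⁻¹
    have hsub : ((Finset.univ.filter fun y : G => y ∈ N ∧ y ≠ 1).filter fun y => ConjClasses.mk y = ConjClasses.mk x) ⊆
        (Finset.univ : Finset (G ⧸ C)).image f := by
      intro y hy
      obtain ⟨g, hg⟩ := isConj_iff.1 (ConjClasses.mk_eq_mk_iff_isConj.1 (Finset.mem_filter.1 hy).2.symm)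
      refine Finset.mem_image.2 ⟨(g : G ⧸ C), Finset.mem_univ _, ?_⟩
      obtain ⟨n, hn⟩ := QuotientGroup.mk_out_eq_mul C g
      show (g : G ⧸ C).out * x * ((g : G ⧸ C).out)⁻¹ = y
      rw [hn, ← hg, mul_inv_rev]
      have := hN (n : G) n.2 x hxN
      calc g * (n : G) * x * ((n : G)⁻¹ * g⁻¹) = g * ((n : G) * x) * (n : G)⁻¹ * g⁻¹ := by group
        _ = g * (x * (n : G)) * (n : G)⁻¹ * g⁻¹ := by rw [this]
        _ = g * x * g⁻¹ := by group
    refine (Finset.card_le_card hsub).trans (Finset.card_image_le.trans (le_of_eq ?_))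
    rw [Finset.card_univ, ← Nat.card_eq_fintype_card]
    rfl
  have hcardN : (Finset.univ.filter fun x : G => x ∈ N ∧ x ≠ 1).card = Nat.card N - 1 := by
    rw [show (Finset.univ.filter fun x : G => x ∈ N ∧ x ≠ 1) = (Finset.univ.filter fun x : G => x ∈ N).erase 1 by
      ext x; simp [and_comm], Finset.card_erase_of_mem (by simp), Nat.card_eq_fintype_card, Fintype.card_subtype]
  have hQ : Nat.card (ConjClasses (G ⧸ C)) + S₁.card ≤ Nat.card (ConjClasses G) := by
    have hsurj : Function.Surjective (ConjClasses.map (QuotientGroup.mk' C)) :=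
      ConjClasses.map_surjective (QuotientGroup.mk'_surjective C)
    have hcov : (Finset.univ : Finset (ConjClasses (G ⧸ C))) ⊆
        (Finset.univ \ S₁).image (ConjClasses.map (QuotientGroup.mk' C)) := by
      intro c _
      obtain ⟨d, rfl⟩ := hsurj c
      by_cases hd : d ∈ S₁
      · refine Finset.mem_image.2 ⟨ConjClasses.mk 1, ?_, ?_⟩
        · refine Finset.mem_sdiff.2 ⟨Finset.mem_univ _, fun h1 => ?_⟩
          obtain ⟨y, hy, hy1⟩ := Finset.mem_image.1 h1
          exact (Finset.mem_filter.1 hy).2.2 (isConj_one_right.1 (ConjClasses.mk_eq_mk_iff_isConj.1 hy1).symm)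
        · obtain ⟨y, hy, rfl⟩ := Finset.mem_image.1 hd
          show ConjClasses.mk ((1 : G) : G ⧸ C) = ConjClasses.mk (y : G ⧸ C)
          rw [(QuotientGroup.eq_one_iff y).2 (hNC (Finset.mem_filter.1 hy).2.1), QuotientGroup.mk_one]
      · exact Finset.mem_image.2 ⟨d, Finset.mem_sdiff.2 ⟨Finset.mem_univ _, hd⟩, rfl⟩
    have h := (Finset.card_le_card hcov).trans Finset.card_image_le
    rw [Finset.card_univ, Finset.card_sdiff_of_subset (Finset.subset_univ _), Finset.card_univ] at h
    have hle := Finset.card_le_univ S₁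
    rw [Nat.card_eq_fintype_card, Nat.card_eq_fintype_card]
    omega
  calc Nat.card (ConjClasses (G ⧸ C)) * C.index + (Nat.card N - 1)
      ≤ Nat.card (ConjClasses (G ⧸ C)) * C.index + S₁.card * C.index := by
        rw [← hcardN, mul_comm S₁.card]; exact Nat.add_le_add_left hsize _
    _ ≤ _ := by rw [← add_mul]; exact Nat.mul_le_mul_right _ hQ

/-- An irreducible group with a normal subgroup of order `p`. -/
theorem crit_bound {H V : Type u} [Group H] [Finite H] [AddCommGroup V] [Finite V] [DistribMulAction H V]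
    {r p : ℕ} [Fact r.Prime] [hp : Fact p.Prime] (hp16 : 16 ≤ p) (hsol : Group.IsSolvable H)
    (hf : ∀ a : H, (∀ v : V, a • v = v) → a = 1) (hirr : Irr H V) (hexp : ∀ v : V, r • v = 0)
    {x : H} (hxp : x ^ p = 1) (hx1 : x ≠ 1) (hnorm : ∀ h : H, h * x * h⁻¹ ∈ zpowers x) :
    ∃ w, 1 ≤ w ∧ p - 1 + w ≤ Nat.card (ConjClasses H) * w ∧
      Nat.card H * 2 ^ w ≤ Nat.card V * w * w * Nat.card (ConjClasses H) := by
  classical
  set C := centralizer ({x} : Set H) with hC
  set w := C.index with hw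
  have hox : orderOf x = p := orderOf_eq_prime hxp hx1
  have hcz : ∀ c ∈ C, ∀ y ∈ zpowers x, c * y = y * c := by
    intro c hc y hy
    obtain ⟨i, rfl⟩ := mem_zpowers_iff.1 hy
    exact ((show Commute c x from mem_centralizer_singleton_iff.1 hc).zpow_right i).eq
  haveI hCn : C.Normal := ⟨fun c hc g => mem_centralizer_singleton_iff.2 (by
    have h1 := hcz c hc _ (hnorm g⁻¹)
    rw [inv_inv] at h1
    calc g * c * g⁻¹ * x = g * (c * (g⁻¹ * x * g)) * g⁻¹ := by group
      _ = g * ((g⁻¹ * x * g) * c) * g⁻¹ := by rw [h1]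
      _ = x * (g * c * g⁻¹) := by group)⟩
  have hzC : zpowers x ≤ C := zpowers_le.2 (mem_centralizer_singleton_iff.2 rfl)
  have hw1 : 1 ≤ w := Nat.one_le_iff_ne_zero.2 index_ne_zero_of_finite
  refine ⟨w, hw1, ?_, ?_⟩
  · have h := classes_quotient_fix (zpowers x) C hzC hcz
    rw [Nat.card_zpowers, hox] at h
    have : 1 * C.index ≤ Nat.card (ConjClasses (H ⧸ C)) * C.index := Nat.mul_le_mul_right _ Nat.card_pos
    show p - 1 + C.index ≤ Nat.card (ConjClasses H) * C.index
    omega
  have hnt : ∃ v : V, v ≠ 0 := by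
    by_contra hn
    push Not at hn
    exact hx1 (hf x fun v => (hn _).trans (hn v).symm)
  -- no fixed vectors
  have hfree : ∀ z ∈ zpowers x, ∀ v : V, z • v = v → z = 1 ∨ v = 0 := by
    intro z hz v hv
    by_cases hz1 : z = 1
    · exact Or.inl hz1
    refine Or.inr ?_
    let F : AddSubgroup V :=
      { carrier := {v | ∀ y ∈ zpowers x, y • v = v}
        zero_mem' := fun y _ => smul_zero y
        add_mem' := fun {a b} ha hb y hy => by rw [smul_add, ha y hy, hb y hy]
        neg_mem' := fun {a} ha y hy => by rw [smul_neg, ha y hy] }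
    have hF : Inv (⊤ : Subgroup H) F := by
      intro h _ a ha y hy
      have h1 : h⁻¹ * y * h ∈ zpowers x := by
        obtain ⟨i, rfl⟩ := mem_zpowers_iff.1 hy
        have h2 := zpow_mem (hnorm h⁻¹) i
        rwa [conj_zpow, inv_inv] at h2
      calc y • h • a = h • (h⁻¹ * y * h) • a := by rw [smul_smul, smul_smul]; group
        _ = h • a := by rw [ha _ h1]
    have hzg : zpowers z = zpowers x := by
      refine eq_of_le_of_card_ge (zpowers_le.2 hz) ?_
      rw [Nat.card_zpowers, Nat.card_zpowers, hox, orderOf_eq_prime (p := p) ?_ hz1]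
      obtain ⟨i, rfl⟩ := mem_zpowers_iff.1 hz
      rw [← zpow_natCast, ← zpow_mul, mul_comm, zpow_mul, zpow_natCast, hxp, one_zpow]
    have hvF : v ∈ F := fun y hy => by
      rw [← hzg] at hy
      obtain ⟨i, rfl⟩ := mem_zpowers_iff.1 hy
      exact (zpow_mem (show z ∈ MulAction.stabilizer H v from hv) i : z ^ i ∈ MulAction.stabilizer H v)
    rcases hirr F hF with h | h
    · rw [h, AddSubgroup.mem_bot] at hvF; exact hvF
    · exact absurd (hf x fun a => (show a ∈ F by rw [h]; trivial) x (mem_zpowers x)) hx1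
  -- the centralizer
  haveI := hsol
  have hCcr : CROn (⊤ : Subgroup C) (⊤ : AddSubgroup V) := by
    intro U _ hU
    obtain ⟨U', -, hU', hinf, hsup⟩ := crOn_normal hirr hCn U le_top fun a ha v hv => hU ⟨a, ha⟩ trivial v hv
    exact ⟨U', le_top, fun a _ v hv => hU' a a.2 v hv, hinf, hsup⟩
  have hcr := cr_bound (r := r) _ C V le_rfl ((zpowers x).subgroupOf C) inferInstance
    (fun a ha => Subtype.ext (hf a ha)) hCcr hexp
    (fun z hz => mem_center_iff.2 fun g => Subtype.ext (hcz g g.2 z hz))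
    (by rw [Nat.card_congr (subgroupOfEquivOfLe hzC).toEquiv, Nat.card_zpowers, hox]; exact hp16)
    (fun z hz v hv => (hfree z hz v hv).imp_left fun h => Subtype.ext h)
  have hR := pow_index_le_scalars (r := r) hexp hnt hxp hx1
    (fun v hv => (hfree x (mem_zpowers x) v hv).resolve_left hx1) hnorm
    (scalars V ((zpowers x).subgroupOf C))
    (show endo C V ⟨x, hzC (mem_zpowers x)⟩ ∈ _ from endo_mem_scalars (mem_zpowers x))
  have hk := CfsgLib.ClassPSq.classes_le_index_mul C
  calc Nat.card H * 2 ^ w ≤ w * (Nat.card C * Nat.card (scalars V ((zpowers x).subgroupOf C))) := by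
        rw [← C.card_mul_index, ← mul_assoc, mul_comm w]
        exact Nat.mul_le_mul_left _ ((Nat.pow_le_pow_left (Fact.out : r.Prime).two_le _).trans hR)
    _ ≤ w * (Nat.card V * (w * Nat.card (ConjClasses H))) :=
        Nat.mul_le_mul_left _ (hcr.trans (Nat.mul_le_mul_left _ hk))
    _ = _ := by ring

theorem succ_sq_le (s : ℕ) : (1 + s) ^ 2 ≤ 4 * 2 ^ s := by
  induction s with
  | zero => norm_num
  | succ s ih =>
    rcases Nat.lt_or_ge s 3 with h | h
    · interval_cases s <;> norm_num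
    · rw [pow_succ (2 : ℕ)]
      nlinarith

/-- The final inequality. -/
theorem numeric {p l k kH w c v : ℕ} (hl4 : 4 ≤ l) (hl : p < 2 ^ (l + 1)) (hw : 1 ≤ w) (hv : 2 ≤ v) (hc : 0 < c)
    (h1 : p - 1 + w ≤ kH * w) (h2 : c * 2 ^ w ≤ v * w * w * kH) (h3 : kH * c + (v - 1) ≤ k * c) :
    p ≤ 3 * l * k := by
  have hkk : kH ≤ k := Nat.le_of_mul_le_mul_right (by omega) hc
  rcases Nat.lt_or_ge (3 * l) w with hlt | hge
  swap
  · calc p ≤ kH * w := by omega
      _ ≤ k * (3 * l) := Nat.mul_le_mul hkk hge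
      _ = _ := mul_comm _ _
  obtain ⟨o, rfl⟩ := Nat.exists_eq_add_of_le hkk
  have hamgm : 4 * kH * o ≤ (kH + o) ^ 2 := by
    rcases Nat.le_total kH o with h | h <;> obtain ⟨d, rfl⟩ := Nat.exists_eq_add_of_le h <;> nlinarith
  have ho : v ≤ 2 * (o * c) := by
    rw [add_mul] at h3
    omega
  have hA : 2 * (c * 2 ^ w) ≤ c * ((kH + o) ^ 2 * (w * w)) := by
    calc 2 * (c * 2 ^ w) ≤ 2 * (v * w * w * kH) := Nat.mul_le_mul_left _ h2
      _ ≤ 2 * (2 * (o * c) * w * w * kH) := by gcongr
      _ = c * (4 * kH * o * (w * w)) := by ring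
      _ ≤ _ := Nat.mul_le_mul_left _ (Nat.mul_le_mul_right _ hamgm)
  have hB : 2 * 2 ^ w ≤ (kH + o) ^ 2 * (w * w) :=
    Nat.le_of_mul_le_mul_left ((le_of_eq (by ring)).trans hA) hc
  obtain ⟨s, hs⟩ := Nat.exists_eq_add_of_le (show 3 * l + 1 ≤ w from hlt)
  have hkey : 2 ^ (2 * l + 1) * (w * w) ≤ 9 * l ^ 2 * 2 ^ w := by
    subst hs
    have h6 : (3 * l + 1 + s) ≤ 6 * l * (1 + s) := by nlinarith
    have h16 : 16 ≤ 2 ^ l := by
      have := Nat.pow_le_pow_right (show 1 ≤ 2 by norm_num) hl4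
      norm_num at this
      exact this
    have hs2 := succ_sq_le s
    calc 2 ^ (2 * l + 1) * ((3 * l + 1 + s) * (3 * l + 1 + s))
        ≤ 2 ^ (2 * l + 1) * (6 * l * (1 + s) * (6 * l * (1 + s))) :=
          Nat.mul_le_mul_left _ (Nat.mul_le_mul h6 h6)
      _ = 2 ^ (2 * l + 1) * (36 * l ^ 2 * (1 + s) ^ 2) := by ring
      _ ≤ 2 ^ (2 * l + 1) * (36 * l ^ 2 * (4 * 2 ^ s)) := by gcongr
      _ = 2 ^ (2 * l + 1) * 2 ^ s * (9 * l ^ 2) * 16 := by ring
      _ ≤ 2 ^ (2 * l + 1) * 2 ^ s * (9 * l ^ 2) * 2 ^ l := Nat.mul_le_mul_left _ h16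
      _ = _ := by
          rw [show 3 * l + 1 + s = 2 * l + 1 + s + l by omega]
          ring
  have hp2 : p ^ 2 ≤ 2 * 2 ^ (2 * l + 1) := by
    calc p ^ 2 ≤ (2 ^ (l + 1)) ^ 2 := Nat.pow_le_pow_left hl.le 2
      _ = _ := by rw [← pow_mul, ← pow_succ']; ring_nf
  have hfin : p ^ 2 * (w * w) ≤ (3 * l * (kH + o)) ^ 2 * (w * w) := by
    calc p ^ 2 * (w * w) ≤ 2 * 2 ^ (2 * l + 1) * (w * w) := Nat.mul_le_mul_right _ hp2
      _ ≤ 2 * (9 * l ^ 2 * 2 ^ w) := by rw [mul_assoc]; exact Nat.mul_le_mul_left _ hkey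
      _ = 9 * l ^ 2 * (2 * 2 ^ w) := by ring
      _ ≤ 9 * l ^ 2 * ((kH + o) ^ 2 * (w * w)) := Nat.mul_le_mul_left _ hB
      _ = _ := by ring
  exact (Nat.pow_le_pow_iff_left two_ne_zero).1 (Nat.le_of_mul_le_mul_right hfin (Nat.mul_pos hw hw))

/-- Groups without a normal subgroup of order `p`. -/
theorem reduce (p : ℕ) [hp : Fact p.Prime] {l : ℕ} (hl4 : 4 ≤ l) (hp16 : 16 ≤ p) (hl : p < 2 ^ (l + 1)) :
    ∀ (m : ℕ) (G : Type u) [Group G] [Finite G], Nat.card G ≤ m → Group.IsSolvable G → p ∣ Nat.card G →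
      ¬ p ^ 2 ∣ Nat.card G → (∀ R : Subgroup G, R.Normal → Nat.card R ≠ p) →
      p ≤ 3 * l * Nat.card (ConjClasses G) := by
  intro m
  induction m using Nat.strong_induction_on with
  | _ m ih =>
    intro G _ _ hm hsol hpG hp2 hno
    classical
    haveI := hsol
    have : Nontrivial G := Finite.one_lt_card_iff_nontrivial.1
      (lt_of_lt_of_le hp.out.one_lt (Nat.le_of_dvd Nat.card_pos hpG))
    obtain ⟨N, hNn, hN1, hNmin⟩ := CfsgLib.Solvable.exists_minimal_normal (G := G)
    obtain ⟨q, hq, hNp, hexp, hcomm⟩ := CfsgLib.Solvable.exists_isPGroup_of_minimal_normal hN1 hNmin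
    haveI : Fact q.Prime := ⟨hq⟩
    obtain ⟨j, hj⟩ := hNp.exists_card_eq
    have hpN : ¬ p ∣ Nat.card N := by
      intro h
      have hpq : p = q := (Nat.prime_dvd_prime_iff_eq hp.out hq).1 (hp.out.dvd_of_dvd_pow (hj ▸ h))
      subst hpq
      rcases j with _ | _ | j
      · exact hN1 (card_eq_one.1 (by rw [hj, pow_zero]))
      · exact hno N hNn (by rw [hj, pow_one])
      · exact hp2 (dvd_trans (hj ▸ pow_dvd_pow p (by omega)) N.card_subgroup_dvd_card)
    have hidx : p ∣ N.index := by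
      rw [← N.card_mul_index] at hpG
      exact (hp.out.dvd_mul.1 hpG).resolve_left hpN
    have hidx2 : ¬ p ^ 2 ∣ N.index := fun h => hp2 (h.trans N.index_dvd_card)
    by_cases hbad : ∀ R : Subgroup (G ⧸ N), R.Normal → Nat.card R ≠ p
    · have hlt : Nat.card (G ⧸ N) < m := by
        refine lt_of_lt_of_le ?_ hm
        rw [← index_eq_card, ← N.card_mul_index]
        exact (Nat.lt_mul_iff_one_lt_left (Nat.pos_of_ne_zero index_ne_zero_of_finite)).2
          (N.one_lt_card_iff_ne_bot.2 hN1)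
      exact (ih _ hlt (G ⧸ N) le_rfl (Group.isSolvable_of_surjective (QuotientGroup.mk'_surjective N))
        (by rwa [← index_eq_card]) (by rwa [← index_eq_card]) hbad).trans
        (Nat.mul_le_mul_left _ (CfsgLib.ClassPSq.classes_quotient_le N))
    push Not at hbad
    obtain ⟨Mb, hMbn, hMb⟩ := hbad
    set M := Mb.comap (QuotientGroup.mk' N) with hM
    haveI hMn : M.Normal := hMbn.comap _
    have hNM : N ≤ M := fun y hy => by
      show QuotientGroup.mk' N y ∈ Mb
      rw [show QuotientGroup.mk' N y = 1 from (QuotientGroup.eq_one_iff y).2 hy]; exact one_mem _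
    obtain ⟨x, hxM, hxo⟩ : ∃ x ∈ M, orderOf x = p := by
      have hMc : p ∣ Nat.card M := by
        have h1 := relIndex_comap (⊥ : Subgroup (G ⧸ N)) (QuotientGroup.mk' N) M
        rw [MonoidHom.comap_bot, QuotientGroup.ker_mk', hM,
          map_comap_eq_self_of_surjective (QuotientGroup.mk'_surjective N), relIndex_bot_left, hMb] at h1
        rw [← (N.subgroupOf M).card_mul_index]
        exact Dvd.dvd.mul_left (dvd_of_eq (by rw [hM]; exact h1.symm)) _
      obtain ⟨x, hx⟩ := exists_prime_orderOf_dvd_card' (G := M) p hMc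
      exact ⟨x, x.2, by rw [orderOf_coe, hx]⟩
    have hxp : x ^ p = 1 := by rw [← hxo]; exact pow_orderOf_eq_one x
    have hxN : x ∉ N := fun h => hpN (by rw [← hxo]; exact Subgroup.orderOf_dvd_natCard N h)
    have hgen : zpowers (QuotientGroup.mk' N x) = Mb := by
      refine eq_of_le_of_card_ge (zpowers_le.2 hxM) ?_
      rw [hMb, Nat.card_zpowers, orderOf_eq_prime (p := p) (x := QuotientGroup.mk' N x) (by rw [← map_pow, hxp, map_one])
        fun e => hxN ((QuotientGroup.eq_one_iff x).1 e)]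
    have hconj : ∀ g : G, ∃ i : ℤ, (x ^ i)⁻¹ * (g * x * g⁻¹) ∈ N := by
      intro g
      have h1 : QuotientGroup.mk' N (g * x * g⁻¹) ∈ zpowers (QuotientGroup.mk' N x) := by
        rw [hgen]; exact hMn.conj_mem x hxM g
      obtain ⟨i, hi⟩ := mem_zpowers_iff.1 h1
      rw [← map_zpow] at hi
      exact ⟨i, QuotientGroup.eq.1 hi⟩
    set C := centralizer (N : Set G) with hC
    have hNab : ∀ a ∈ N, ∀ b ∈ N, a * b = b * a := fun a ha b hb =>
      congrArg Subtype.val (hcomm.is_comm.comm (⟨a, ha⟩ : N) ⟨b, hb⟩)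
    have hNC : N ≤ C := fun a ha => mem_centralizer_iff.2 fun b hb => hNab b hb a ha
    -- `x` does not centralize `N`
    have hxC : x ∉ C := by
      intro hx
      refine hno (zpowers x) ⟨fun y hy g => ?_⟩ (by rw [Nat.card_zpowers, hxo])
      obtain ⟨i, rfl⟩ := mem_zpowers_iff.1 hy
      rw [← conj_zpow]
      refine zpow_mem ?_ i
      obtain ⟨k, hk⟩ := hconj g
      set n := (x ^ k)⁻¹ * (g * x * g⁻¹) with hn
      have hcn : Commute (x ^ k) n := (show Commute x n from (mem_centralizer_iff.1 hx n hk).symm).zpow_left k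
      have he : g * x * g⁻¹ = x ^ k * n := by rw [hn, mul_inv_cancel_left]
      have hnp : n ^ p = 1 := by
        have h := conj_pow (a := g) (b := x) (i := p)
        rw [hxp, mul_one, mul_inv_cancel, he, hcn.mul_pow, ← zpow_natCast, ← zpow_mul, mul_comm k, zpow_mul,
          zpow_natCast, hxp, one_zpow, one_mul] at h
        exact h
      have hn1 : n = 1 := by
        rw [← orderOf_eq_one_iff, Nat.eq_one_of_dvd_coprimes ((hp.out.coprime_iff_not_dvd.2 hpN))
          (orderOf_dvd_iff_pow_eq_one.2 hnp) (Subgroup.orderOf_dvd_natCard N hk)]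
      rw [he, hn1, mul_one]
      exact zpow_mem (mem_zpowers x) k
    -- the action
    letI : CommGroup N := { (inferInstance : Group N) with
      mul_comm := fun a b => Subtype.ext (hNab _ a.2 _ b.2) }
    let ρ : G ⧸ C →* MulAut N := QuotientGroup.lift C MulAut.conjNormal (fun g hg => by
      rw [MonoidHom.mem_ker]
      refine MulEquiv.ext fun y => Subtype.ext ?_
      rw [MulAut.conjNormal_apply, MulAut.one_apply, ← mem_centralizer_iff.1 hg y y.2, mul_inv_cancel_right])
    letI act : DistribMulAction (G ⧸ C) (Additive N) :=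
      { smul := fun a v => Additive.ofMul (ρ a v.toMul)
        one_smul := fun v => by show Additive.ofMul (ρ 1 v.toMul) = v; rw [map_one]; rfl
        mul_smul := fun a b v => by
          show Additive.ofMul (ρ (a * b) v.toMul) = Additive.ofMul (ρ a (ρ b v.toMul))
          rw [map_mul]; rfl
        smul_zero := fun a => by show Additive.ofMul (ρ a 1) = 0; rw [map_one]; rfl
        smul_add := fun a v w => by
          show Additive.ofMul (ρ a (v.toMul * w.toMul)) = _
          rw [map_mul]; rfl }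
    have hf : ∀ a : G ⧸ C, (∀ v : Additive N, a • v = v) → a = 1 := by
      intro a ha
      obtain ⟨g, rfl⟩ := QuotientGroup.mk_surjective a
      refine (QuotientGroup.eq_one_iff g).2 (mem_centralizer_iff.2 fun y hy => ?_)
      have := congrArg Subtype.val (show ρ (g : G ⧸ C) ⟨y, hy⟩ = ⟨y, hy⟩ from
        ha (Additive.ofMul (⟨y, hy⟩ : N)))
      change g * y * g⁻¹ = y at this
      exact (mul_inv_eq_iff_eq_mul.1 this).symm
    have hirr : Irr (G ⧸ C) (Additive N) := by
      intro W hW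
      let K : Subgroup G := (AddSubgroup.toSubgroup' W).map N.subtype
      have hKn : K.Normal := ⟨by
        rintro _ ⟨y, hy, rfl⟩ g
        exact ⟨ρ (g : G ⧸ C) y, hW _ (mem_top (g : G ⧸ C)) _ hy, rfl⟩⟩
      rcases hNmin K hKn (map_subtype_le _) with hK | hK
      · left
        rw [AddSubgroup.eq_bot_iff_forall]
        intro v hv
        have hmem : ((v.toMul : N) : G) ∈ K := ⟨v.toMul, hv, rfl⟩
        rw [hK, mem_bot] at hmem
        exact congrArg Additive.ofMul (Subtype.ext hmem : v.toMul = 1)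
      · right
        rw [AddSubgroup.eq_top_iff']
        intro v
        obtain ⟨y, hy, hyv⟩ := hK.ge v.toMul.2
        obtain rfl : y = v.toMul := Subtype.ext hyv
        exact hy
    obtain ⟨w, hw, h1, h2⟩ := crit_bound (r := q) hp16
      (Group.isSolvable_of_surjective (QuotientGroup.mk'_surjective C)) hf hirr
      (fun v => show Additive.ofMul (v.toMul ^ q) = 0 by
        rw [show v.toMul ^ q = 1 from Subtype.ext (hexp _ v.toMul.2)]; rfl)
      (x := (x : G ⧸ C)) (by rw [← QuotientGroup.mk_pow, hxp, QuotientGroup.mk_one])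
      (fun e => hxC ((QuotientGroup.eq_one_iff x).1 e)) (fun h => by
        obtain ⟨g, rfl⟩ := QuotientGroup.mk_surjective h
        obtain ⟨i, hi⟩ := hconj g
        refine mem_zpowers_iff.2 ⟨i, ?_⟩
        rw [← QuotientGroup.mk_zpow, ← QuotientGroup.mk_inv, ← QuotientGroup.mk_mul, ← QuotientGroup.mk_mul]
        exact QuotientGroup.eq.2 (hNC hi))
    refine numeric hl4 hl hw (N.one_lt_card_iff_ne_bot.2 hN1) Nat.card_pos h1 ?_
      (classes_quotient_fix N C hNC fun c hc y hy => (mem_centralizer_iff.1 hc y hy).symm)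
    rw [Nat.card_congr Additive.toMul] at h2
    exact h2

/-- **The bound.** -/
theorem class_number_bound {G : Type u} [Group G] [Finite G] (hsol : Group.IsSolvable G) (p : ℕ)
    [hp : Fact p.Prime] (hpF : p ∣ (Cfsg.fittingSubgroup G).index) :
    (p : ℝ) / (3 * Real.logb 2 p) ≤ Nat.card (ConjClasses G) := by
  set l := Nat.log 2 p
  have hpG : p ∣ Nat.card G := hpF.trans (index_dvd_card _)
  have hk2 : 2 ≤ Nat.card (ConjClasses G) := by
    by_contra hlt
    have hone : Nat.card (ConjClasses G) = 1 := by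
      have : 0 < Nat.card (ConjClasses G) := Nat.card_pos
      omega
    have hsub : Subsingleton G := ⟨fun a b => by
      have h1 : ∀ g : G, g = 1 := fun g => isConj_one_right.1
        (ConjClasses.mk_eq_mk_iff_isConj.1 ((Nat.card_eq_one_iff_unique.1 hone).1.elim _ _)).symm
      rw [h1 a, h1 b]⟩
    rw [Nat.card_of_subsingleton (1 : G)] at hpG
    exact hp.out.not_dvd_one hpG
  have hl1 : 1 ≤ l := Nat.log_pos (by norm_num) hp.out.two_le
  have hup : p < 2 ^ (l + 1) := Nat.lt_pow_succ_log_self (by norm_num) p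
  have hmain : p ≤ 3 * l * Nat.card (ConjClasses G) := by
    rcases Nat.lt_or_ge p 16 with h16 | h16
    · have h6 := Nat.mul_le_mul_left (3 * l) hk2
      rcases Nat.lt_or_ge l 3 with h | h
      · interval_cases l <;> norm_num at hup h6 ⊢ <;> omega
      · omega
    have hl4 : 4 ≤ l := Nat.le_log_of_pow_le (by norm_num) (by norm_num; exact h16)
    by_cases hp2 : p ^ 2 ∣ Nat.card G
    · have h := CfsgLib.ClassPSq.class_number_bound G hsol p hp2
      have := Nat.mul_le_mul_right (Nat.card (ConjClasses G)) (show 2 ≤ 3 * l by omega)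
      omega
    refine reduce p hl4 h16 hup _ G le_rfl hsol hpG hp2 fun R hR hRc => hp2 ?_
    have hcyc : IsCyclic R := isCyclic_of_prime_card hRc
    have hle : R ≤ Cfsg.fittingSubgroup G :=
      CfsgLib.Solvable.le_fittingSubgroup_of_isMulCommutative hR inferInstance
    rw [← (Cfsg.fittingSubgroup G).card_mul_index, pow_two]
    exact mul_dvd_mul (hRc ▸ card_dvd_of_le hle) hpF
  have hlog : (l : ℝ) ≤ Real.logb 2 p := by
    have := Real.natLog_le_logb p 2
    exact_mod_cast this
  have hl0 : (1 : ℝ) ≤ l := by exact_mod_cast hl1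
  have h : (p : ℝ) ≤ 3 * l * Nat.card (ConjClasses G) := by exact_mod_cast hmain
  rw [div_le_iff₀ (by linarith)]
  have h0 : (0 : ℝ) ≤ Nat.card (ConjClasses G) := Nat.cast_nonneg _
  nlinarith [mul_le_mul_of_nonneg_right hlog h0]

end CfsgLib.ClassFit
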